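import Groth.Agent.TFCurv.K706.FamPush
import Groth.Agent.VBCurve.K432.MukLaws
import Groth.Agent.Fga.QTSub
import Groth.Prelude.Def_ModQuot

/-!
# The morphism of moduli spaces induced by direct image along a finite birational morphism
-/

set_option autoImplicit false
universe u

noncomputable section

open CategoryTheory CategoryTheory.Limits AlgebraicGeometry Polynomial

namespace K706.Induce

open K706.NuT

/-- `famSS` only depends on the isomorphism class of the family. -/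
theorem famSS_iso {X S : Scheme.{u}} (f : X ⟶ S) (L : X.Modules) (P : ℚ[X]) (d : ℕ) (T : Over S)
    {E E' : (PicF.XT f T).Modules} (e : E ≅ E') (h : ShStab.famSS f L P d T E) :
    ShStab.famSS f L P d T E' := by
  obtain ⟨h1, h2, h3⟩ := h
  refine ⟨Groth.Agent.Sga67.CohBasic.isCoh_of_iso e h1,
    Groth.Agent.Fga.QTSub.isFlatOver_of_iso _ e h2, fun Ω _ _ t => ?_⟩
  let g : Over.mk (t ≫ T.hom) ⟶ T := Over.homMk t rfl
  let et := (Scheme.Modules.pullback (PicF.XTmap f g)).mapIso e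
  obtain ⟨h4, h5⟩ := h3 Ω t
  let _ : (PicF.XT f (Over.mk (t ≫ T.hom))).Over (Spec (CommRingCat.of Ω)) :=
    ⟨PicF.XTproj f (Over.mk (t ≫ T.hom))⟩
  exact ⟨K846.Twist.isHilbPoly_iso (X := PicF.XT f (Over.mk (t ≫ T.hom))) (Iso.refl _) et h4,
    K847.SSPull.isSemistable_isoL (X := PicF.XT f (Over.mk (t ≫ T.hom))) (Iso.refl _) et h5⟩

variable {k : Type u} [Field k] [IsAlgClosed k] {X Y : Scheme.{u}}
  (f : X ⟶ Spec (CommRingCat.of k)) (ν : Y ⟶ X) [IsFinite ν] [IsIntegral X] [IsIntegral Y]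
  [IsProper f] (hdim : topologicalKrullDim X ≤ 1)
  (hiso : ∃ U : X.Opens, (U : Set X).Nonempty ∧ IsIso (ν ∣_ U))
  {L : X.Modules} (hL : CohB1.IsAmple L) (P : ℚ[X])
  {T₀ : ObjectProperty (Over (Spec (CommRingCat.of k)))} {M : Over (Spec (CommRingCat.of k))}
  (φ : (ShStab.modSS f L P 1).Hom T₀ M)

/-- The transformation `x ↦ φ (ν_* x)`. -/
def psi : (ShStab.modSS (ν ≫ f) ((Scheme.Modules.pullback ν).obj L) P 1).Hom T₀ M where
  app T x hT hx := φ.app T (push f ν T x) hT
    ⟨trivial, FamPush.famSS_push f ν hdim hiso hL P T hx.2⟩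
  natural {T T'} g x hT hT' hx hx' := by
    obtain ⟨e⟩ := pull_push f ν g x hx.2.1.1
    have h1 : (ShStab.modSS f L P 1).ok T' ((ShStab.modSS f L P 1).pull g (push f ν T x)) :=
      ⟨trivial, famSS_iso f L P 1 T' e.symm (FamPush.famSS_push f ν hdim hiso hL P T' hx'.2)⟩
    have h2 : (ShStab.modSS f L P 1).ok T (push f ν T x) :=
      ⟨trivial, FamPush.famSS_push f ν hdim hiso hL P T hx.2⟩
    rw [← φ.natural g (push f ν T x) hT hT' h2 h1]
    exact φ.resp _ _ hT' _ h1 (K432.MukLaws.r_of_iso f e.symm)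
  resp {T} x y hT hx hy h := φ.resp _ _ hT _ _ (r_push f ν T h)

include hdim hiso hL in
/-- There is exactly one morphism of moduli spaces induced by direct image along `ν`. -/
theorem existsUnique {M' : Over (Spec (CommRingCat.of k))}
    (φ' : (ShStab.modSS (ν ≫ f) ((Scheme.Modules.pullback ν).obj L) P 1).Hom T₀ M')
    (hM' : ModFun.IsBestApprox T₀ (ShStab.modSS (ν ≫ f) ((Scheme.Modules.pullback ν).obj L) P 1)
      M' φ') :
    ∃! g : M' ⟶ M, ModFun.Induces φ' φ
      (fun (T : Over (Spec (CommRingCat.of k))) (x : (PicF.XT (ν ≫ f) T).Modules)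
        (y : (PicF.XT f T).Modules) => Nonempty (y ≅ push f ν T x)) g := by
  obtain ⟨g, hg, huniq⟩ := hM' M (psi f ν hdim hiso hL P φ)
  refine ⟨g, ?_, fun g' hg' => huniq g' ?_⟩
  · intro T x y hT hx hy ⟨e⟩
    have h2 : (ShStab.modSS f L P 1).ok T (push f ν T x) :=
      ⟨trivial, FamPush.famSS_push f ν hdim hiso hL P T hx.2⟩
    have h3 : φ.app T y hT hy = φ.app T (push f ν T x) hT h2 :=
      φ.resp _ _ hT _ _ (K432.MukLaws.r_of_iso f e)
    rw [h3]
    exact hg T x hT hx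
  · intro T x hT hx
    have h2 : (ShStab.modSS f L P 1).ok T (push f ν T x) :=
      ⟨trivial, FamPush.famSS_push f ν hdim hiso hL P T hx.2⟩
    exact hg' T x (push f ν T x) hT hx h2 ⟨Iso.refl _⟩

end K706.Induce
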