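import Groth.Agent.TFCurv.K840.BirPush

/-!
# Birational morphisms (in terms of the generic points) and base change

An isomorphism over a nonempty open subset is birational, also after a base change whose source
and target are irreducible.
-/

set_option autoImplicit false
universe u

noncomputable section

open CategoryTheory CategoryTheory.Limits AlgebraicGeometry TopologicalSpace

namespace K706.BirBC

open K840.BirPush

/-- A morphism which is an isomorphism over a nonempty open subset is birational. -/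
theorem bir_of_isIso {X Y : Scheme.{u}} (f : Y ⟶ X) [IrreducibleSpace X] [IrreducibleSpace Y]
    (U : X.Opens) (hU : (U : Set X).Nonempty) [IsIso (f ∣_ U)] : Bir f := by
  have hη : genericPoint X ∈ U := by
    have h := (genericPoint_spec X).mem_open_set_iff U.2
    exact h.2 (by simpa using hU)
  have hsurj : ∀ x ∈ U, ∃ y : Y, f.base y = x := fun x hx => by
    obtain ⟨y, hy⟩ := (f ∣_ U).surjective ⟨x, hx⟩
    refine ⟨y.1, ?_⟩
    have := morphismRestrict_base_coe f U y
    rw [hy] at this
    exact this.symm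
  have hinj : ∀ y₁ y₂ : Y, f.base y₁ ∈ U → f.base y₂ ∈ U → f.base y₁ = f.base y₂ → y₁ = y₂ := by
    intro y₁ y₂ h1 h2 h
    have e : (⟨y₁, h1⟩ : (f ⁻¹ᵁ U : Y.Opens)) = ⟨y₂, h2⟩ := by
      have hi : Function.Injective (f ∣_ U).base :=
        (f ∣_ U).isOpenEmbedding.injective
      apply hi
      apply Subtype.ext
      have e1 := morphismRestrict_base_coe f U (⟨y₁, h1⟩ : (f ⁻¹ᵁ U : Y.Opens))
      have e2 := morphismRestrict_base_coe f U (⟨y₂, h2⟩ : (f ⁻¹ᵁ U : Y.Opens))
      exact e1.trans (h.trans e2.symm)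
    exact congrArg Subtype.val e
  have hgen : f.base (genericPoint Y) = genericPoint X := by
    have h1 : IsGenericPoint (f.base (genericPoint Y)) (closure (f.base '' (Set.univ : Set Y))) :=
      (genericPoint_spec Y).image f.continuous
    have h2 : closure (f.base '' (Set.univ : Set Y)) = Set.univ := by
      rw [Set.eq_univ_iff_forall]
      intro x
      have h3 : (U : Set X) ⊆ f.base '' (Set.univ : Set Y) := fun z hz => by
        obtain ⟨y, hy⟩ := hsurj z hz
        exact ⟨y, trivial, hy⟩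
      have h4 : closure (U : Set X) = Set.univ := (U.2.dense hU).closure_eq
      exact closure_mono h3 (h4 ▸ trivial)
    rw [h2] at h1
    exact h1.eq (genericPoint_spec X)
  refine ⟨hgen, fun z hz => ?_, ?_⟩
  · refine hinj z _ (hz ▸ hη) (hgen ▸ hη) (hz.trans hgen.symm)
  · have hm : genericPoint Y ∈ f ⁻¹ᵁ U := by
      change f.base (genericPoint Y) ∈ U
      rw [hgen]; exact hη
    let z : (f ⁻¹ᵁ U).toScheme := ⟨genericPoint Y, hm⟩
    have h1 : IsIso ((f ∣_ U).stalkMap z) := inferInstance
    have h2 : IsIso (f.stalkMap (genericPoint Y)) := by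
      have := (MorphismProperty.isomorphisms CommRingCat).arrow_mk_iso_iff
        (morphismRestrictStalkMap f U z)
      exact this.1 h1
    exact (ConcreteCategory.isIso_iff_bijective _).1 h2

/-- Base change of a birational morphism. -/
theorem bir_baseChange {X Y X' Y' : Scheme.{u}} {g' : Y' ⟶ Y} {f' : Y' ⟶ X'} {f : Y ⟶ X}
    {g : X' ⟶ X} (H : IsPullback g' f' f g) [IrreducibleSpace X'] [IrreducibleSpace Y']
    (U : X.Opens) [IsIso (f ∣_ U)] (hU : ((g ⁻¹ᵁ U : X'.Opens) : Set X').Nonempty) : Bir f' := by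
  have h1 := Scheme.Hom.isPullback_resLE H (US := U) (UT := g ⁻¹ᵁ U) (UX := f ⁻¹ᵁ U) le_rfl le_rfl
    (UY := f' ⁻¹ᵁ (g ⁻¹ᵁ U)) (by
      have : g' ⁻¹ᵁ (f ⁻¹ᵁ U) = f' ⁻¹ᵁ (g ⁻¹ᵁ U) := by
        rw [← Scheme.Hom.comp_preimage, ← Scheme.Hom.comp_preimage, H.w]
      rw [this, inf_idem])
  have h2 : IsIso (f.resLE U (f ⁻¹ᵁ U) le_rfl) := by
    rw [Scheme.Hom.resLE_eq_morphismRestrict]; infer_instance
  have h3 := h1.isIso_snd_of_isIso
  rw [Scheme.Hom.resLE_eq_morphismRestrict] at h3
  exact bir_of_isIso f' (g ⁻¹ᵁ U) hU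

end K706.BirBC
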