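import Groth.Agent.CohqA.AffineBaseChange
import Groth.Agent.CohqA.AffPush
import Groth.Agent.FlatMod.K582.PushFlat
import Groth.Agent.Fga.HodgePush
import Groth.Agent.Ega2.TensLift
import Groth.Agent.VarietyB.ProjForm
import Groth.Prelude.Def_ModFun2

/-!
# Direct image of families along `ν ×_S T`

`f : X ⟶ S`, `ν : Y ⟶ X` affine.  For an `S`-scheme `T` let `nu T : Y_T ⟶ X_T`.  The direct image
along `nu T` commutes with pull-back in `T` and with twists by invertible modules of `T`, keeps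
flatness over `T` and (for `ν` finite) coherence.
-/

set_option autoImplicit false
universe u

noncomputable section

open CategoryTheory CategoryTheory.Limits AlgebraicGeometry

namespace K706.NuT

variable {X Y S : Scheme.{u}} (f : X ⟶ S) (ν : Y ⟶ X)

/-- `ν ×_S T : Y_T ⟶ X_T`. -/
abbrev nu (T : Over S) : PicF.XT (ν ≫ f) T ⟶ PicF.XT f T :=
  pullback.map (ν ≫ f) T.hom f T.hom ν (𝟙 T.left) (𝟙 S) (Category.comp_id _)
    ((Category.comp_id _).trans (Category.id_comp _).symm)

theorem nu_fst (T : Over S) : nu f ν T ≫ pullback.fst f T.hom = pullback.fst (ν ≫ f) T.hom ≫ ν :=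
  pullback.lift_fst _ _ _

theorem nu_snd (T : Over S) : nu f ν T ≫ pullback.snd f T.hom = pullback.snd (ν ≫ f) T.hom :=
  (pullback.lift_snd _ _ _).trans (Category.comp_id _)

theorem XTmap_fst {T T' : Over S} (g : T' ⟶ T) :
    PicF.XTmap f g ≫ pullback.fst f T.hom = pullback.fst f T'.hom :=
  (pullback.lift_fst _ _ _).trans (Category.comp_id _)

theorem XTmap_snd {T T' : Over S} (g : T' ⟶ T) :
    PicF.XTmap f g ≫ pullback.snd f T.hom = pullback.snd f T'.hom ≫ g.left :=
  pullback.lift_snd _ _ _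

theorem isPullback_nu (T : Over S) :
    IsPullback (pullback.fst (ν ≫ f) T.hom) (nu f ν T) ν (pullback.fst f T.hom) := by
  refine IsPullback.of_bot (h₃₁ := T.hom) (v₂₁ := pullback.snd f T.hom) (v₂₂ := f) ?_
    (nu_fst f ν T).symm (IsPullback.of_hasPullback f T.hom)
  rw [nu_snd]
  exact IsPullback.of_hasPullback (ν ≫ f) T.hom

theorem w_nu {T T' : Over S} (g : T' ⟶ T) :
    PicF.XTmap (ν ≫ f) g ≫ nu f ν T = nu f ν T' ≫ PicF.XTmap f g := by
  apply pullback.hom_ext
  · rw [Category.assoc, Category.assoc, nu_fst, XTmap_fst, nu_fst, ← Category.assoc, XTmap_fst]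
  · rw [Category.assoc, Category.assoc, nu_snd, XTmap_snd, XTmap_snd, ← Category.assoc, nu_snd]

theorem isPullback_XTmap {T T' : Over S} (g : T' ⟶ T) :
    IsPullback (PicF.XTmap (ν ≫ f) g) (nu f ν T') (nu f ν T) (PicF.XTmap f g) := by
  refine IsPullback.of_right (h₁₂ := pullback.fst (ν ≫ f) T.hom) (h₂₂ := pullback.fst f T.hom)
    (v₁₃ := ν) ?_ (w_nu f ν g) (isPullback_nu f ν T)
  rw [XTmap_fst, XTmap_fst]
  exact isPullback_nu f ν T'

instance [IsAffineHom ν] (T : Over S) : IsAffineHom (nu f ν T) :=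
  MorphismProperty.of_isPullback (P := @IsAffineHom) (isPullback_nu f ν T) inferInstance

instance [IsFinite ν] (T : Over S) : IsFinite (nu f ν T) :=
  MorphismProperty.of_isPullback (P := @IsFinite) (isPullback_nu f ν T) inferInstance

/-- Direct image along `ν_T`. -/
abbrev push (T : Over S) (E : (PicF.XT (ν ≫ f) T).Modules) : (PicF.XT f T).Modules :=
  (Scheme.Modules.pushforward (nu f ν T)).obj E

theorem pull_push [IsAffineHom ν] {T T' : Over S} (g : T' ⟶ T)
    (E : (PicF.XT (ν ≫ f) T).Modules) (hE : Coh.IsQCoh E) :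
    Nonempty ((Scheme.Modules.pullback (PicF.XTmap f g)).obj (push f ν T E) ≅
      push f ν T' ((Scheme.Modules.pullback (PicF.XTmap (ν ≫ f) g)).obj E)) := by
  have : E.IsQuasicoherent := hE
  exact Groth.Agent.CohqA.AffineBaseChange.nonempty_iso (isPullback_XTmap f ν g) E

theorem isCoh_push [IsFinite ν] (T : Over S) {E : (PicF.XT (ν ≫ f) T).Modules}
    (hE : Coh.IsCoh E) : Coh.IsCoh (push f ν T E) :=
  ⟨Groth.Agent.CohqA.AffPush.isQCoh_push (nu f ν T) _ hE.1,
    Groth.Agent.CohqA.AffPush.isFT_push (nu f ν T) _ hE.1 hE.2⟩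

theorem isFlat_push [IsAffineHom ν] (T : Over S) {E : (PicF.XT (ν ≫ f) T).Modules}
    (hE : Coh.IsQCoh E) (h : FlatMod.IsFlatOver (PicF.XTproj (ν ≫ f) T) E) :
    FlatMod.IsFlatOver (PicF.XTproj f T) (push f ν T E) := by
  rw [PicF.XTproj, ← nu_snd] at h
  exact (K582.PushFlat.isFlatOver_iff_push (nu f ν T) (pullback.snd f T.hom) E hE).1 h

/-- Twists by invertible modules of the base. -/
theorem r_push (T : Over S) {E E' : (PicF.XT (ν ≫ f) T).Modules} [IsAffineHom ν]
    (h : (ModFun.modProb (ν ≫ f)).r T E E') :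
    (ModFun.modProb f).r T (push f ν T E) (push f ν T E') := by
  obtain ⟨N, hN, ⟨e⟩⟩ := h
  refine ⟨N, hN, ⟨?_⟩⟩
  have hN' : PicF.IsInvertible ((Scheme.Modules.pullback (PicF.XTproj f T)).obj N) :=
    Groth.Agent.Fdesc.LocGen.isInvertible_pullback _ hN
  let a : (Scheme.Modules.pullback (nu f ν T)).obj
      ((Scheme.Modules.pullback (PicF.XTproj f T)).obj N) ≅
      (Scheme.Modules.pullback (PicF.XTproj (ν ≫ f) T)).obj N :=
    (Scheme.Modules.pullbackComp (nu f ν T) (PicF.XTproj f T)).app N ≪≫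
      (Scheme.Modules.pullbackCongr (nu_snd f ν T)).app N
  exact (Scheme.Modules.pushforward (nu f ν T)).mapIso
      (e ≪≫ Groth.Agent.Ega2.Tens.swap _ _ ≪≫ Groth.Agent.Ega2.Tens.mapTIso a.symm (Iso.refl _)) ≪≫
    (Groth.Agent.VarietyB.ProjForm.projIso (nu f ν T)
      (Groth.Agent.Fga.HodgePush.hasBases_of_isInvertible hN') E).symm ≪≫
    Groth.Agent.Ega2.Tens.swap _ _

end K706.NuT
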