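import Groth.Agent.TFCurv.K706.BirBC
import Groth.Agent.TFCurv.K706.NuT
import Groth.Agent.TFCurv.K840.StabPush
import Groth.Agent.ShStab.K847.SSPull
import Groth.Agent.Cyc.K309.ProdSurj
import Groth.Agent.Etcore.DimBaseChange
import Groth.Prelude.Def_ShStab

/-!
# The direct image of an admissible family along a finite birational morphism is admissible
-/

set_option autoImplicit false
universe u

noncomputable section

open CategoryTheory CategoryTheory.Limits AlgebraicGeometry Polynomial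

namespace K706.FamPush

open K706.NuT

variable {k : Type u} [Field k] [IsAlgClosed k] {X Y : Scheme.{u}}
  (f : X ⟶ Spec (CommRingCat.of k)) (ν : Y ⟶ X) [IsFinite ν] [IsIntegral X] [IsIntegral Y]
  [IsProper f] (hdim : topologicalKrullDim X ≤ 1)
  (hiso : ∃ U : X.Opens, (U : Set X).Nonempty ∧ IsIso (ν ∣_ U))
  {L : X.Modules} (hL : CohB1.IsAmple L) (P : ℚ[X])

omit [IsFinite ν] in
include hdim hiso in
/-- The geometric facts about `ν_Ω`. -/
theorem facts (Ω : Type u) [Field Ω] (s : Spec (CommRingCat.of Ω) ⟶ Spec (CommRingCat.of k)) :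
    ∃ (_ : IrreducibleSpace (PicF.XT f (Over.mk s)))
      (_ : IrreducibleSpace (PicF.XT (ν ≫ f) (Over.mk s))),
      topologicalKrullDim (PicF.XT f (Over.mk s)) ≤ 1 ∧
      K840.BirPush.Bir (nu f ν (Over.mk s)) := by
  have h1 := K309.ProdSurj.geometricallyIntegral f
  have h2 := K309.ProdSurj.geometricallyIntegral (ν ≫ f)
  have i1 : IsIntegral (PicF.XT f (Over.mk s)) :=
    GeometricallyIntegral.geometrically_isIntegral _ _ _ (IsPullback.of_hasPullback f s)
  have i2 : IsIntegral (PicF.XT (ν ≫ f) (Over.mk s)) :=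
    GeometricallyIntegral.geometrically_isIntegral _ _ _ (IsPullback.of_hasPullback (ν ≫ f) s)
  refine ⟨inferInstance, inferInstance, ?_, ?_⟩
  · have h3 : topologicalKrullDim (pullback f s : Scheme.{u}) = topologicalKrullDim X :=
      Groth.Agent.Etcore.DimBaseChange.topologicalKrullDim_eq (Field.toIsField k)
        (Field.toIsField Ω) f (pullback.snd f s) (pullback.fst f s) _ (IsPullback.of_hasPullback _ _)
    exact h3.trans_le hdim
  · obtain ⟨U, hU, hi⟩ := hiso
    refine K706.BirBC.bir_baseChange (isPullback_nu f ν (Over.mk s)) U ?_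
    obtain ⟨x, hx⟩ := hU
    have hs : Surjective s := ⟨fun y => ⟨default, Subsingleton.elim _ _⟩⟩
    have : Surjective (pullback.fst f s) := inferInstance
    obtain ⟨y, hy⟩ := (pullback.fst f s).surjective x
    exact ⟨y, by change (pullback.fst f s) y ∈ U; rw [hy]; exact hx⟩

include hdim hiso hL in
/-- The direct image of an admissible family is admissible. -/
theorem famSS_push (T : Over (Spec (CommRingCat.of k))) {E : (PicF.XT (ν ≫ f) T).Modules}
    (h : ShStab.famSS (ν ≫ f) ((Scheme.Modules.pullback ν).obj L) P 1 T E) :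
    ShStab.famSS f L P 1 T (push f ν T E) := by
  obtain ⟨h1, h2, h3⟩ := h
  refine ⟨isCoh_push f ν T h1, isFlat_push f ν T h1.1 h2, ?_⟩
  intro Ω _ _ t
  obtain ⟨h4, h5⟩ := h3 Ω t
  let s : Spec (CommRingCat.of Ω) ⟶ Spec (CommRingCat.of k) := t ≫ T.hom
  let g : Over.mk s ⟶ T := Over.homMk t rfl
  let Et := (Scheme.Modules.pullback (PicF.XTmap (ν ≫ f) g)).obj E
  obtain ⟨e⟩ := pull_push f ν g E h1.1
  let _ : (PicF.XT f (Over.mk s)).Over (Spec (CommRingCat.of Ω)) := ⟨PicF.XTproj f (Over.mk s)⟩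
  let _ : (PicF.XT (ν ≫ f) (Over.mk s)).Over (Spec (CommRingCat.of Ω)) :=
    ⟨PicF.XTproj (ν ≫ f) (Over.mk s)⟩
  let Ls := (Scheme.Modules.pullback (pullback.fst f s)).obj L
  have hs : IsAffineHom s := inferInstance
  have hfs : IsAffineHom (pullback.fst f s) := 
    MorphismProperty.of_isPullback (P := @IsAffineHom) (IsPullback.of_hasPullback f s).flip hs
  have hLs : CohB1.IsAmple Ls := Groth.Agent.Sga5.AmpleFib.isAmple_pullback (pullback.fst f s) hL
  have hf : nu f ν (Over.mk s) ≫ (PicF.XT f (Over.mk s) ↘ Spec (CommRingCat.of Ω)) =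
      PicF.XT (ν ≫ f) (Over.mk s) ↘ Spec (CommRingCat.of Ω) := nu_snd f ν (Over.mk s)
  have hp : IsProper (PicF.XT f (Over.mk s) ↘ Spec (CommRingCat.of Ω)) :=
    inferInstanceAs (IsProper (pullback.snd f s))
  let a : (Scheme.Modules.pullback (pullback.fst (ν ≫ f) s)).obj
      ((Scheme.Modules.pullback ν).obj L) ≅
      (Scheme.Modules.pullback (nu f ν (Over.mk s))).obj Ls :=
    (Scheme.Modules.pullbackComp (pullback.fst (ν ≫ f) s) ν).app L ≪≫
      (Scheme.Modules.pullbackCongr (nu_fst f ν (Over.mk s)).symm).app L ≪≫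
      ((Scheme.Modules.pullbackComp (nu f ν (Over.mk s)) (pullback.fst f s)).app L).symm
  obtain ⟨i1, i2, h6, h7⟩ := facts f ν hdim hiso Ω s
  have hc : Coh.IsCoh Et := h5.1
  have h4' : ShStab.IsHilbPoly Ω (PicF.XT (ν ≫ f) (Over.mk s))
      ((Scheme.Modules.pullback (nu f ν (Over.mk s))).obj Ls) Et P :=
    K846.Twist.isHilbPoly_iso (X := PicF.XT (ν ≫ f) (Over.mk s)) a (Iso.refl _) h4
  have h5' : ShStab.IsSemistable Ω (PicF.XT (ν ≫ f) (Over.mk s))
      ((Scheme.Modules.pullback (nu f ν (Over.mk s))).obj Ls) Et 1 :=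
    K847.SSPull.isSemistable_isoL (X := PicF.XT (ν ≫ f) (Over.mk s)) a (Iso.refl _) h5
  constructor
  · exact K846.Twist.isHilbPoly_iso (X := PicF.XT f (Over.mk s)) (Iso.refl _) e.symm
      ((K840.StabPush.isHilbPoly_push_iff (nu f ν (Over.mk s)) hf hLs.1 hc P).2 h4')
  · exact K847.SSPull.isSemistable_isoL (X := PicF.XT f (Over.mk s)) (Iso.refl _) e.symm
      (K840.StabPush.isSemistable_push (nu f ν (Over.mk s)) hf hLs h6 h7 h5')

end K706.FamPush
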